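import Cfsg.Agent.Lib.SRGSearch.Enc
import Cfsg.Agent.Lib.SRGSearch.G77.Std
import Cfsg.Agent.Lib.SRGSearch.G77.D0

/-! Check of part 0 of the certificate of the graph with parameters (77, 16, 0, 4). -/

set_option autoImplicit false

namespace Cfsg.Agent.Lib.SRGSearch.G77.P0

open Cfsg.Agent.Lib.SRGSearch.Core Cfsg.Agent.Lib.SRGSearch.Enc

/-- The list of known vertices before this part. -/
def d0 : List KL := []

set_option maxRecDepth 1000000 in
set_option maxHeartbeats 0 in
theorem t0 : checkRaw 77 16 0 4 std 151115727451828646838272 D0.c0 d0 = true := by decide +kernel

/-- The list of known vertices before chunk 1. -/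
def d1 : List KL := doneAfter 77 151115727451828646838272 D0.c0 d0

set_option maxRecDepth 1000000 in
set_option maxHeartbeats 0 in
theorem t1 : checkRaw 77 16 0 4 std 151115727451828646838272 D0.c1 d1 = true := by decide +kernel

/-- The list of known vertices before chunk 2. -/
def d2 : List KL := doneAfter 77 151115727451828646838272 D0.c1 d1

set_option maxRecDepth 1000000 in
set_option maxHeartbeats 0 in
theorem t2 : checkRaw 77 16 0 4 std 151115727451828646838272 D0.c2 d2 = true := by decide +kernel

/-- The list of known vertices before chunk 3. -/
def d3 : List KL := doneAfter 77 151115727451828646838272 D0.c2 d2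

set_option maxRecDepth 1000000 in
set_option maxHeartbeats 0 in
theorem t3 : checkRaw 77 16 0 4 std 151115727451828646838272 D0.c3 d3 = true := by decide +kernel

/-- The list of known vertices before chunk 4. -/
def d4 : List KL := doneAfter 77 151115727451828646838272 D0.c3 d3

set_option maxRecDepth 1000000 in
set_option maxHeartbeats 0 in
theorem t4 : checkRaw 77 16 0 4 std 151115727451828646838272 D0.c4 d4 = true := by decide +kernel

/-- The list of known vertices before chunk 5. -/
def d5 : List KL := doneAfter 77 151115727451828646838272 D0.c4 d4

set_option maxRecDepth 1000000 in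
set_option maxHeartbeats 0 in
theorem t5 : checkRaw 77 16 0 4 std 151115727451828646838272 D0.c5 d5 = true := by decide +kernel

/-- The list of known vertices before chunk 6. -/
def d6 : List KL := doneAfter 77 151115727451828646838272 D0.c5 d5

set_option maxRecDepth 1000000 in
set_option maxHeartbeats 0 in
theorem t6 : checkRaw 77 16 0 4 std 151115727451828646838272 D0.c6 d6 = true := by decide +kernel

/-- The list of known vertices before chunk 7. -/
def d7 : List KL := doneAfter 77 151115727451828646838272 D0.c6 d6

set_option maxRecDepth 1000000 in
set_option maxHeartbeats 0 in
theorem t7 : checkRaw 77 16 0 4 std 151115727451828646838272 D0.c7 d7 = true := by decide +kernel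

/-- The list of known vertices before chunk 8. -/
def d8 : List KL := doneAfter 77 151115727451828646838272 D0.c7 d7

set_option maxRecDepth 1000000 in
set_option maxHeartbeats 0 in
theorem t8 : checkRaw 77 16 0 4 std 151115727451828646838272 D0.c8 d8 = true := by decide +kernel

/-- The list of known vertices before chunk 9. -/
def d9 : List KL := doneAfter 77 151115727451828646838272 D0.c8 d8

set_option maxRecDepth 1000000 in
set_option maxHeartbeats 0 in
theorem t9 : checkRaw 77 16 0 4 std 151115727451828646838272 D0.c9 d9 = true := by decide +kernel

/-- The list of known vertices before chunk 10. -/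
def d10 : List KL := doneAfter 77 151115727451828646838272 D0.c9 d9

set_option maxRecDepth 1000000 in
set_option maxHeartbeats 0 in
theorem t10 : checkRaw 77 16 0 4 std 151115727451828646838272 D0.c10 d10 = true := by decide +kernel

/-- The list of known vertices before chunk 11. -/
def d11 : List KL := doneAfter 77 151115727451828646838272 D0.c10 d10

set_option maxRecDepth 1000000 in
set_option maxHeartbeats 0 in
theorem t11 : checkRaw 77 16 0 4 std 151115727451828646838272 D0.c11 d11 = true := by decide +kernel

/-- The list of known vertices before chunk 12. -/
def d12 : List KL := doneAfter 77 151115727451828646838272 D0.c11 d11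

set_option maxRecDepth 1000000 in
set_option maxHeartbeats 0 in
theorem t12 : checkRaw 77 16 0 4 std 151115727451828646838272 D0.c12 d12 = true := by decide +kernel

/-- The list of known vertices before chunk 13. -/
def d13 : List KL := doneAfter 77 151115727451828646838272 D0.c12 d12

set_option maxRecDepth 1000000 in
set_option maxHeartbeats 0 in
theorem t13 : checkRaw 77 16 0 4 std 151115727451828646838272 D0.c13 d13 = true := by decide +kernel

/-- The list of known vertices before chunk 14. -/
def d14 : List KL := doneAfter 77 151115727451828646838272 D0.c13 d13

set_option maxRecDepth 1000000 in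
set_option maxHeartbeats 0 in
theorem t14 : checkRaw 77 16 0 4 std 151115727451828646838272 D0.c14 d14 = true := by decide +kernel

/-- The list of known vertices before chunk 15. -/
def d15 : List KL := doneAfter 77 151115727451828646838272 D0.c14 d14

set_option maxRecDepth 1000000 in
set_option maxHeartbeats 0 in
theorem t15 : checkRaw 77 16 0 4 std 151115727451828646838272 D0.c15 d15 = true := by decide +kernel

/-- The list of known vertices before chunk 16. -/
def d16 : List KL := doneAfter 77 151115727451828646838272 D0.c15 d15

set_option maxRecDepth 1000000 in
set_option maxHeartbeats 0 in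
theorem t16 : checkRaw 77 16 0 4 std 151115727451828646838272 D0.c16 d16 = true := by decide +kernel

/-- The check of this part. -/
theorem check : checkRaw 77 16 0 4 std 151115727451828646838272 D0.s d0 = true :=
  checkRaw_append' t0 (checkRaw_append' t1 (checkRaw_append' t2 (checkRaw_append' t3 (checkRaw_append' t4 (checkRaw_append' t5 (checkRaw_append' t6 (checkRaw_append' t7 (checkRaw_append' t8 (checkRaw_append' t9 (checkRaw_append' t10 (checkRaw_append' t11 (checkRaw_append' t12 (checkRaw_append' t13 (checkRaw_append' t14 (checkRaw_append' t15 (t16))))))))))))))))

end Cfsg.Agent.Lib.SRGSearch.G77.P0
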