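import Cfsg.Agent.Lib.SRGSearch.Enc
import Cfsg.Agent.Lib.SRGSearch.G77.Std
import Cfsg.Agent.Lib.SRGSearch.G77.D0
import Cfsg.Agent.Lib.SRGSearch.G77.D1

/-! Check of part 1 of the certificate of the graph with parameters (77, 16, 0, 4). -/

set_option autoImplicit false

namespace Cfsg.Agent.Lib.SRGSearch.G77.P1

open Cfsg.Agent.Lib.SRGSearch.Core Cfsg.Agent.Lib.SRGSearch.Enc

/-- The list of known vertices before this part. -/
def d0 : List KL := (doneAfter 77 151115727451828646838272 D0.s [])

set_option maxRecDepth 1000000 in
set_option maxHeartbeats 0 in
theorem t0 : checkRaw 77 16 0 4 std 151115727451828646838272 D1.c0 d0 = true := by decide +kernel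

/-- The list of known vertices before chunk 1. -/
def d1 : List KL := doneAfter 77 151115727451828646838272 D1.c0 d0

set_option maxRecDepth 1000000 in
set_option maxHeartbeats 0 in
theorem t1 : checkRaw 77 16 0 4 std 151115727451828646838272 D1.c1 d1 = true := by decide +kernel

/-- The list of known vertices before chunk 2. -/
def d2 : List KL := doneAfter 77 151115727451828646838272 D1.c1 d1

set_option maxRecDepth 1000000 in
set_option maxHeartbeats 0 in
theorem t2 : checkRaw 77 16 0 4 std 151115727451828646838272 D1.c2 d2 = true := by decide +kernel

/-- The list of known vertices before chunk 3. -/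
def d3 : List KL := doneAfter 77 151115727451828646838272 D1.c2 d2

set_option maxRecDepth 1000000 in
set_option maxHeartbeats 0 in
theorem t3 : checkRaw 77 16 0 4 std 151115727451828646838272 D1.c3 d3 = true := by decide +kernel

/-- The list of known vertices before chunk 4. -/
def d4 : List KL := doneAfter 77 151115727451828646838272 D1.c3 d3

set_option maxRecDepth 1000000 in
set_option maxHeartbeats 0 in
theorem t4 : checkRaw 77 16 0 4 std 151115727451828646838272 D1.c4 d4 = true := by decide +kernel

/-- The list of known vertices before chunk 5. -/
def d5 : List KL := doneAfter 77 151115727451828646838272 D1.c4 d4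

set_option maxRecDepth 1000000 in
set_option maxHeartbeats 0 in
theorem t5 : checkRaw 77 16 0 4 std 151115727451828646838272 D1.c5 d5 = true := by decide +kernel

/-- The list of known vertices before chunk 6. -/
def d6 : List KL := doneAfter 77 151115727451828646838272 D1.c5 d5

set_option maxRecDepth 1000000 in
set_option maxHeartbeats 0 in
theorem t6 : checkRaw 77 16 0 4 std 151115727451828646838272 D1.c6 d6 = true := by decide +kernel

/-- The list of known vertices before chunk 7. -/
def d7 : List KL := doneAfter 77 151115727451828646838272 D1.c6 d6

set_option maxRecDepth 1000000 in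
set_option maxHeartbeats 0 in
theorem t7 : checkRaw 77 16 0 4 std 151115727451828646838272 D1.c7 d7 = true := by decide +kernel

/-- The list of known vertices before chunk 8. -/
def d8 : List KL := doneAfter 77 151115727451828646838272 D1.c7 d7

set_option maxRecDepth 1000000 in
set_option maxHeartbeats 0 in
theorem t8 : checkRaw 77 16 0 4 std 151115727451828646838272 D1.c8 d8 = true := by decide +kernel

/-- The list of known vertices before chunk 9. -/
def d9 : List KL := doneAfter 77 151115727451828646838272 D1.c8 d8

set_option maxRecDepth 1000000 in
set_option maxHeartbeats 0 in
theorem t9 : checkRaw 77 16 0 4 std 151115727451828646838272 D1.c9 d9 = true := by decide +kernel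

/-- The list of known vertices before chunk 10. -/
def d10 : List KL := doneAfter 77 151115727451828646838272 D1.c9 d9

set_option maxRecDepth 1000000 in
set_option maxHeartbeats 0 in
theorem t10 : checkRaw 77 16 0 4 std 151115727451828646838272 D1.c10 d10 = true := by decide +kernel

/-- The list of known vertices before chunk 11. -/
def d11 : List KL := doneAfter 77 151115727451828646838272 D1.c10 d10

set_option maxRecDepth 1000000 in
set_option maxHeartbeats 0 in
theorem t11 : checkRaw 77 16 0 4 std 151115727451828646838272 D1.c11 d11 = true := by decide +kernel

/-- The list of known vertices before chunk 12. -/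
def d12 : List KL := doneAfter 77 151115727451828646838272 D1.c11 d11

set_option maxRecDepth 1000000 in
set_option maxHeartbeats 0 in
theorem t12 : checkRaw 77 16 0 4 std 151115727451828646838272 D1.c12 d12 = true := by decide +kernel

/-- The list of known vertices before chunk 13. -/
def d13 : List KL := doneAfter 77 151115727451828646838272 D1.c12 d12

set_option maxRecDepth 1000000 in
set_option maxHeartbeats 0 in
theorem t13 : checkRaw 77 16 0 4 std 151115727451828646838272 D1.c13 d13 = true := by decide +kernel

/-- The list of known vertices before chunk 14. -/
def d14 : List KL := doneAfter 77 151115727451828646838272 D1.c13 d13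

set_option maxRecDepth 1000000 in
set_option maxHeartbeats 0 in
theorem t14 : checkRaw 77 16 0 4 std 151115727451828646838272 D1.c14 d14 = true := by decide +kernel

/-- The list of known vertices before chunk 15. -/
def d15 : List KL := doneAfter 77 151115727451828646838272 D1.c14 d14

set_option maxRecDepth 1000000 in
set_option maxHeartbeats 0 in
theorem t15 : checkRaw 77 16 0 4 std 151115727451828646838272 D1.c15 d15 = true := by decide +kernel

/-- The list of known vertices before chunk 16. -/
def d16 : List KL := doneAfter 77 151115727451828646838272 D1.c15 d15

set_option maxRecDepth 1000000 in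
set_option maxHeartbeats 0 in
theorem t16 : checkRaw 77 16 0 4 std 151115727451828646838272 D1.c16 d16 = true := by decide +kernel

/-- The check of this part. -/
theorem check : checkRaw 77 16 0 4 std 151115727451828646838272 D1.s d0 = true :=
  checkRaw_append' t0 (checkRaw_append' t1 (checkRaw_append' t2 (checkRaw_append' t3 (checkRaw_append' t4 (checkRaw_append' t5 (checkRaw_append' t6 (checkRaw_append' t7 (checkRaw_append' t8 (checkRaw_append' t9 (checkRaw_append' t10 (checkRaw_append' t11 (checkRaw_append' t12 (checkRaw_append' t13 (checkRaw_append' t14 (checkRaw_append' t15 (t16))))))))))))))))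

end Cfsg.Agent.Lib.SRGSearch.G77.P1
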