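import Cfsg.Agent.Lib.SRGSearch.Enc
import Cfsg.Agent.Lib.SRGSearch.G77.Std
import Cfsg.Agent.Lib.SRGSearch.G77.D0
import Cfsg.Agent.Lib.SRGSearch.G77.D1
import Cfsg.Agent.Lib.SRGSearch.G77.D2
import Cfsg.Agent.Lib.SRGSearch.G77.D3
import Cfsg.Agent.Lib.SRGSearch.G77.D4
import Cfsg.Agent.Lib.SRGSearch.G77.D5
import Cfsg.Agent.Lib.SRGSearch.G77.D6
import Cfsg.Agent.Lib.SRGSearch.G77.D7
import Cfsg.Agent.Lib.SRGSearch.G77.D8
import Cfsg.Agent.Lib.SRGSearch.G77.D9
import Cfsg.Agent.Lib.SRGSearch.G77.D10
import Cfsg.Agent.Lib.SRGSearch.G77.D11

/-! Check of part 11 of the certificate of the graph with parameters (77, 16, 0, 4). -/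

set_option autoImplicit false

namespace Cfsg.Agent.Lib.SRGSearch.G77.P11

open Cfsg.Agent.Lib.SRGSearch.Core Cfsg.Agent.Lib.SRGSearch.Enc

/-- The list of known vertices before this part. -/
def d0 : List KL := (doneAfter 77 151115727451828646838272 D10.s (doneAfter 77 151115727451828646838272 D9.s (doneAfter 77 151115727451828646838272 D8.s (doneAfter 77 151115727451828646838272 D7.s (doneAfter 77 151115727451828646838272 D6.s (doneAfter 77 151115727451828646838272 D5.s (doneAfter 77 151115727451828646838272 D4.s (doneAfter 77 151115727451828646838272 D3.s (doneAfter 77 151115727451828646838272 D2.s (doneAfter 77 151115727451828646838272 D1.s (doneAfter 77 151115727451828646838272 D0.s [])))))))))))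

set_option maxRecDepth 1000000 in
set_option maxHeartbeats 0 in
theorem t0 : checkRaw 77 16 0 4 std 151115727451828646838272 D11.c0 d0 = true := by decide +kernel

/-- The list of known vertices before chunk 1. -/
def d1 : List KL := doneAfter 77 151115727451828646838272 D11.c0 d0

set_option maxRecDepth 1000000 in
set_option maxHeartbeats 0 in
theorem t1 : checkRaw 77 16 0 4 std 151115727451828646838272 D11.c1 d1 = true := by decide +kernel

/-- The list of known vertices before chunk 2. -/
def d2 : List KL := doneAfter 77 151115727451828646838272 D11.c1 d1

set_option maxRecDepth 1000000 in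
set_option maxHeartbeats 0 in
theorem t2 : checkRaw 77 16 0 4 std 151115727451828646838272 D11.c2 d2 = true := by decide +kernel

/-- The list of known vertices before chunk 3. -/
def d3 : List KL := doneAfter 77 151115727451828646838272 D11.c2 d2

set_option maxRecDepth 1000000 in
set_option maxHeartbeats 0 in
theorem t3 : checkRaw 77 16 0 4 std 151115727451828646838272 D11.c3 d3 = true := by decide +kernel

/-- The list of known vertices before chunk 4. -/
def d4 : List KL := doneAfter 77 151115727451828646838272 D11.c3 d3

set_option maxRecDepth 1000000 in
set_option maxHeartbeats 0 in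
theorem t4 : checkRaw 77 16 0 4 std 151115727451828646838272 D11.c4 d4 = true := by decide +kernel

/-- The list of known vertices before chunk 5. -/
def d5 : List KL := doneAfter 77 151115727451828646838272 D11.c4 d4

set_option maxRecDepth 1000000 in
set_option maxHeartbeats 0 in
theorem t5 : checkRaw 77 16 0 4 std 151115727451828646838272 D11.c5 d5 = true := by decide +kernel

/-- The list of known vertices before chunk 6. -/
def d6 : List KL := doneAfter 77 151115727451828646838272 D11.c5 d5

set_option maxRecDepth 1000000 in
set_option maxHeartbeats 0 in
theorem t6 : checkRaw 77 16 0 4 std 151115727451828646838272 D11.c6 d6 = true := by decide +kernel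

/-- The list of known vertices before chunk 7. -/
def d7 : List KL := doneAfter 77 151115727451828646838272 D11.c6 d6

set_option maxRecDepth 1000000 in
set_option maxHeartbeats 0 in
theorem t7 : checkRaw 77 16 0 4 std 151115727451828646838272 D11.c7 d7 = true := by decide +kernel

/-- The list of known vertices before chunk 8. -/
def d8 : List KL := doneAfter 77 151115727451828646838272 D11.c7 d7

set_option maxRecDepth 1000000 in
set_option maxHeartbeats 0 in
theorem t8 : checkRaw 77 16 0 4 std 151115727451828646838272 D11.c8 d8 = true := by decide +kernel

/-- The list of known vertices before chunk 9. -/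
def d9 : List KL := doneAfter 77 151115727451828646838272 D11.c8 d8

set_option maxRecDepth 1000000 in
set_option maxHeartbeats 0 in
theorem t9 : checkRaw 77 16 0 4 std 151115727451828646838272 D11.c9 d9 = true := by decide +kernel

/-- The list of known vertices before chunk 10. -/
def d10 : List KL := doneAfter 77 151115727451828646838272 D11.c9 d9

set_option maxRecDepth 1000000 in
set_option maxHeartbeats 0 in
theorem t10 : checkRaw 77 16 0 4 std 151115727451828646838272 D11.c10 d10 = true := by decide +kernel

/-- The list of known vertices before chunk 11. -/
def d11 : List KL := doneAfter 77 151115727451828646838272 D11.c10 d10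

set_option maxRecDepth 1000000 in
set_option maxHeartbeats 0 in
theorem t11 : checkRaw 77 16 0 4 std 151115727451828646838272 D11.c11 d11 = true := by decide +kernel

/-- The list of known vertices before chunk 12. -/
def d12 : List KL := doneAfter 77 151115727451828646838272 D11.c11 d11

set_option maxRecDepth 1000000 in
set_option maxHeartbeats 0 in
theorem t12 : checkRaw 77 16 0 4 std 151115727451828646838272 D11.c12 d12 = true := by decide +kernel

/-- The list of known vertices before chunk 13. -/
def d13 : List KL := doneAfter 77 151115727451828646838272 D11.c12 d12

set_option maxRecDepth 1000000 in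
set_option maxHeartbeats 0 in
theorem t13 : checkRaw 77 16 0 4 std 151115727451828646838272 D11.c13 d13 = true := by decide +kernel

/-- The list of known vertices before chunk 14. -/
def d14 : List KL := doneAfter 77 151115727451828646838272 D11.c13 d13

set_option maxRecDepth 1000000 in
set_option maxHeartbeats 0 in
theorem t14 : checkRaw 77 16 0 4 std 151115727451828646838272 D11.c14 d14 = true := by decide +kernel

/-- The list of known vertices before chunk 15. -/
def d15 : List KL := doneAfter 77 151115727451828646838272 D11.c14 d14

set_option maxRecDepth 1000000 in
set_option maxHeartbeats 0 in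
theorem t15 : checkRaw 77 16 0 4 std 151115727451828646838272 D11.c15 d15 = true := by decide +kernel

/-- The check of this part. -/
theorem check : checkRaw 77 16 0 4 std 151115727451828646838272 D11.s d0 = true :=
  checkRaw_append' t0 (checkRaw_append' t1 (checkRaw_append' t2 (checkRaw_append' t3 (checkRaw_append' t4 (checkRaw_append' t5 (checkRaw_append' t6 (checkRaw_append' t7 (checkRaw_append' t8 (checkRaw_append' t9 (checkRaw_append' t10 (checkRaw_append' t11 (checkRaw_append' t12 (checkRaw_append' t13 (checkRaw_append' t14 (t15)))))))))))))))

end Cfsg.Agent.Lib.SRGSearch.G77.P11
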